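import Cfsg.Agent.H6.OutPSL
import Cfsg.Agent.H6.FieldPSL
import Cfsg.Agent.S2698
import Cfsg.Agent.FT.Pi

/-! Automorphisms of `PSL₂(q)` of prime power order centralising an abelian Sylow subgroup
are inner. -/

set_option autoImplicit false

namespace Cfsg.Agent.OutL2

open Subgroup Cfsg.Agent.FT Cfsg.Agent.H6 Matrix

theorem abs_comm {A : Type*} [Group A] [Finite A] {r : ℕ} [Fact r.Prime] {I R : Subgroup A}
    [I.Normal] {α : A} {k : ℕ} (hα : orderOf α = r ^ k) (hR : Syl r R I) (hc : R ≤ 𝐂(R))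
    (hα2 : α ∈ 𝐂(R)) {Q : Subgroup A} (hQ : IsPGroup r Q) (hle : Q ≤ I ⊔ zpowers α) :
    Q ≤ 𝐂(Q) ∧ ∃ S, Syl r S I ∧ Q ≤ 𝐂(S) := by
  have hZ : IsPGroup r (zpowers α) := IsPGroup.iff_card.2 ⟨k, by rw [Nat.card_zpowers, hα]⟩
  have hZR : zpowers α ≤ 𝐂(R) := (zpowers_le (G := A)).2 hα2
  have hZZ : zpowers α ≤ 𝐂(zpowers α) := comm_iff_le_cent.1 inferInstance
  have hT : zpowers α ⊔ R ≤ 𝐂(zpowers α ⊔ R) := by
    rw [cent_sup]
    exact le_inf (sup_le hZZ (cent_symm hZR)) (sup_le hZR hc)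
  have hTp : IsPGroup r ↥(zpowers α ⊔ R) :=
    hZ.to_sup_of_normal_right' hR.isPGroup (hZR.trans (cent_le_norm R))
  have hS : Syl r (zpowers α ⊔ R) (I ⊔ zpowers α) := by
    refine H1.isSylowIn_of_maximal hTp (sup_le le_sup_right (hR.le.trans le_sup_left))
      fun P hP h1 h2 => ?_
    have e1 : P ⊓ I = R := hR.eq_of_le hP.to_inf_left (le_inf (le_sup_right.trans h1) hR.le)
      inf_le_right
    have e2 := inf_sup_of_le' (A := I) (B := zpowers α) (H := P) (le_sup_left.trans h1)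
      (Or.inr le_normalizer_of_normal)
    rw [inf_of_le_left h2, e1] at e2
    rw [e2, sup_comm]
  obtain ⟨g, -, hg⟩ := Syl.exists_le_cj hS hQ hle
  have hT' : cj g (zpowers α ⊔ R) ≤ 𝐂(cj g (zpowers α ⊔ R)) := by
    rw [← cj_centralizer]; exact cj_mono g hT
  refine ⟨hg.trans (hT'.trans (cent_anti hg)), cj g R, ?_, ?_⟩
  · have := hR.cj g
    rwa [H1.cj_eq_of_normal g I] at this
  · exact hg.trans (hT'.trans (cent_anti (cj_mono g le_sup_right)))

theorem arith {r : ℕ} (hr : r.Prime) (x : ℤ) (h : (r : ℤ) ∣ x ^ r * ((x ^ r) ^ 2 - 1)) :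
    (r : ℤ) * (x * (x ^ 2 - 1)) ∣ x ^ r * ((x ^ r) ^ 2 - 1) := by
  have := Fact.mk hr
  have hp : Prime (r : ℤ) := Nat.prime_iff_prime_int.1 hr
  have hf : (r : ℤ) ∣ x ^ r - x := by
    rw [← ZMod.intCast_zmod_eq_zero_iff_dvd]
    push_cast
    rw [ZMod.pow_card, sub_self]
  have hg := geom_sum_mul (x ^ 2) r
  obtain ⟨m, hm⟩ : ∃ m, r = m + 2 := ⟨r - 2, by have := hr.two_le; omega⟩
  have e : x ^ r * ((x ^ r) ^ 2 - 1) =
      (x ^ (m + 1) * ∑ i ∈ Finset.range r, (x ^ 2) ^ i) * (x * (x ^ 2 - 1)) := by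
    have e1 : (x ^ r) ^ 2 = (x ^ 2) ^ r := by rw [← pow_mul, ← pow_mul, mul_comm]
    have e2 : x ^ r = x ^ (m + 1) * x := by rw [hm]; ring
    rw [e1, ← hg, e2]; ring
  rw [e]
  refine mul_dvd_mul_right ?_ _
  rcases hp.dvd_or_dvd h with h1 | h1
  · exact (((hp.dvd_of_dvd_pow h1).trans (dvd_pow_self x (by omega)))).mul_right _
  · refine Dvd.dvd.mul_left ?_ _
    have h2 : (r : ℤ) ∣ x ^ 2 - 1 := by
      have : x ^ 2 - 1 = ((x ^ r) ^ 2 - 1) - (x ^ r - x) * (x ^ r + x) := by ring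
      rw [this]
      exact dvd_sub h1 (hf.mul_right _)
    rw [← ZMod.intCast_zmod_eq_zero_iff_dvd] at h2 ⊢
    push_cast at h2 ⊢
    rw [sub_eq_zero] at h2
    simp [h2]

theorem card_center_gl (K : Type*) [Field K] [Fintype K] :
    (Nat.card (center (GL (Fin 2) K)) : ℤ) = Fintype.card K - 1 := by
  classical
  rw [GeneralLinearGroup.center_eq_range_scalar]
  have hi : Function.Injective (GeneralLinearGroup.scalar (Fin 2) : Kˣ →* GL (Fin 2) K) := by
    intro a b h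
    have := congrArg (fun g : GL (Fin 2) K => (g : Matrix (Fin 2) (Fin 2) K) 0 0) h
    exact Units.ext (by simpa using this)
  rw [← Nat.card_congr (MonoidHom.ofInjective hi).toEquiv, Nat.card_units,
    Nat.card_eq_fintype_card, Nat.cast_sub Fintype.card_pos]
  simp

theorem card_gl (K : Type*) [Field K] [Fintype K] :
    (Nat.card (GL (Fin 2) K) : ℤ) = (Fintype.card K - 1) *
      (Fintype.card K * ((Fintype.card K : ℤ) ^ 2 - 1)) := by
  rw [card_GL_field, Fin.prod_univ_two]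
  have h1 : 1 ≤ Fintype.card K := Fintype.card_pos
  simp only [Fin.val_zero, Fin.val_one, pow_zero, pow_one]
  rw [Nat.cast_mul, Nat.cast_sub (Nat.one_le_pow _ _ h1), Nat.cast_sub (by nlinarith)]
  push_cast; ring

theorem index_center_gl (K : Type*) [Field K] [Fintype K] :
    ((center (GL (Fin 2) K)).index : ℤ) = Fintype.card K * ((Fintype.card K : ℤ) ^ 2 - 1) := by
  have h := (center (GL (Fin 2) K)).card_mul_index
  have h2 : (1 : ℤ) < Fintype.card K := by exact_mod_cast Fintype.one_lt_card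
  have h3 := congrArg (Nat.cast : ℕ → ℤ) h
  rw [Nat.cast_mul, card_center_gl, card_gl] at h3
  exact mul_left_cancel₀ (by omega) h3

variable {F : Type*} [Field F] [Fintype F]

local notation "X" => ProjectiveSpecialLinearGroup (Fin 2) F
local notation "D" => slD (Fin 2) F
local notation "Φ" => slΦ (Fin 2) F

omit [Fintype F] in
theorem slD_mem_inn {g : GL (Fin 2) F} (h : IsSquare (g : Matrix (Fin 2) (Fin 2) F).det) :
    D g ∈ Inn X := by
  obtain ⟨c, hc⟩ := h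
  have hc0 : c ≠ 0 := by
    rintro rfl
    exact g.det_ne_zero (by simpa using hc)
  rw [inn_psl_eq]
  refine ⟨GeneralLinearGroup.scalar (Fin 2) (Units.mk0 c hc0)⁻¹ * g, ?_,
    slD_scalar_mul (by simp) _ _⟩
  refine Units.ext ?_
  simp only [map_mul, Units.val_mul, GeneralLinearGroup.val_det_apply, hc, Units.val_one]
  simp [hc0]
  field_simp

theorem sq_mul_of_not {a b : F} (ha : ¬ IsSquare a) (hb : ¬ IsSquare b) : IsSquare (a * b) := by
  classical
  have ha0 : a ≠ 0 := by rintro rfl; exact ha IsSquare.zero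
  have hb0 : b ≠ 0 := by rintro rfl; exact hb IsSquare.zero
  rw [← quadraticChar_one_iff_isSquare (mul_ne_zero ha0 hb0), map_mul,
    quadraticChar_neg_one_iff_not_isSquare.2 ha, quadraticChar_neg_one_iff_not_isSquare.2 hb]
  norm_num

theorem sq_mul_aut (σ : F ≃+* F) (a : F) : IsSquare (a * σ a) := by
  by_cases h : IsSquare a
  · exact h.mul (h.map σ)
  · refine sq_mul_of_not h fun h' => h ?_
    simpa using h'.map σ.symm

theorem exists_nonab (h2 : (2 : F) ≠ 0) : ∃ Q : Subgroup (MulAut X), IsPGroup 2 Q ∧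
    Q ≤ (D).range ∧ ¬ Q ≤ 𝐂(Q) := by
  let u : GL (Fin 2) F := GeneralLinearGroup.mkOfDetNeZero !![1, 1; -1, 1]
    (by rw [det_fin_two_of]; norm_num; exact h2)
  let w : GL (Fin 2) F := GeneralLinearGroup.mkOfDetNeZero !![1, 0; 0, -1]
    (by rw [det_fin_two_of]; norm_num)
  have hu : (u : Matrix (Fin 2) (Fin 2) F) = !![1, 1; -1, 1] := rfl
  have hw : (w : Matrix (Fin 2) (Fin 2) F) = !![1, 0; 0, -1] := rfl
  have e1 : D u ^ 4 = 1 := by
    rw [← map_pow, slD_eq_one_iff (by simp), mem_center_gl_iff]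
    refine ⟨-4, ?_⟩
    rw [Units.val_pow_eq_pow_val, hu]
    ext i j
    fin_cases i <;> fin_cases j <;> simp [pow_succ, Matrix.mul_apply, Fin.sum_univ_two] <;> norm_num
  have e2 : D w ^ 2 = 1 := by
    rw [← map_pow, slD_eq_one_iff (by simp), mem_center_gl_iff]
    refine ⟨1, ?_⟩
    rw [Units.val_pow_eq_pow_val, hw]
    ext i j
    fin_cases i <;> fin_cases j <;> simp [pow_succ, Matrix.mul_apply, Fin.sum_univ_two]
  have e3 : D w * D u * D w * D u = 1 := by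
    rw [← map_mul, ← map_mul, ← map_mul, slD_eq_one_iff (by simp), mem_center_gl_iff]
    refine ⟨2, ?_⟩
    simp only [Units.val_mul, hu, hw]
    ext i j
    fin_cases i <;> fin_cases j <;> simp [Matrix.mul_apply, Fin.sum_univ_two] <;> norm_num
  have e4 : D u * D u ≠ 1 := by
    rw [← map_mul, Ne, slD_eq_one_iff (by simp), mem_center_gl_iff]
    rintro ⟨c, hc⟩
    have := congrFun (congrFun hc 0) 1
    simp only [Units.val_mul, hu] at this
    simp [Matrix.mul_apply, Fin.sum_univ_two] at this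
    exact h2 (by rw [← this]; norm_num)
  generalize hA : D u = a at e1 e3 e4
  generalize hB : D w = b at e2 e3
  have hbi : b⁻¹ = b := inv_eq_of_mul_eq_one_right (by rw [← sq, e2])
  have e5 : b * a * b⁻¹ = a⁻¹ := by rw [hbi]; exact eq_inv_of_mul_eq_one_left e3
  have hpa : IsPGroup 2 (zpowers a) := by
    rintro ⟨_, n, rfl⟩
    exact ⟨2, Subtype.ext (by
      change (a ^ n) ^ (2 ^ 2) = 1
      rw [← zpow_natCast, ← _root_.zpow_mul, mul_comm, _root_.zpow_mul, zpow_natCast]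
      norm_num [e1])⟩
  have hpb : IsPGroup 2 (zpowers b) := by
    rintro ⟨_, n, rfl⟩
    exact ⟨1, Subtype.ext (by
      change (b ^ n) ^ (2 ^ 1) = 1
      rw [← zpow_natCast, ← _root_.zpow_mul, mul_comm, _root_.zpow_mul, zpow_natCast]
      norm_num [e2])⟩
  have hn : b ∈ 𝐍(zpowers a) := by
    rw [← cj_eq_iff_mem_normalizer, cj_zpowers, e5, zpowers_inv]
  refine ⟨zpowers b ⊔ zpowers a, hpb.to_sup_of_normal_right' hpa (zpowers_le_normalizer hn),
    sup_le ((zpowers_le (G := MulAut X)).2 ⟨w, hB⟩) ((zpowers_le (G := MulAut X)).2 ⟨u, hA⟩),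
    fun h => e4 ?_⟩
  have := mem_cent_iff.1 (h (mem_sup_left (mem_zpowers b))) a (mem_sup_right (mem_zpowers a))
  rw [← this, mul_inv_cancel_right] at e5
  exact mul_eq_one_iff_eq_inv.2 e5

theorem card_range_slD : (♯(D).range : ℤ) = Fintype.card F * ((Fintype.card F : ℤ) ^ 2 - 1) := by
  rw [← index_ker, slD_ker (by simp), index_center_gl]

theorem no_field {r : ℕ} [hr : Fact r.Prime] (h3 : 3 < Fintype.card F) (hd : r ∣ Nat.card X)
    {τ : F ≃+* F} (hτ : orderOf τ = r) {S : Subgroup (MulAut X)} (hS : Syl r S (D).range)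
    (hc : Φ τ ∈ 𝐂(S)) : False := by
  obtain ⟨p, hchar⟩ := CharP.exists F
  have hp : Fact p.Prime := ⟨CharP.char_is_prime F p⟩
  obtain ⟨⟨f, hf⟩, -, hF⟩ := FiniteField.card F p
  have hτ1 : τ ≠ RingEquiv.refl F := by
    rintro rfl
    exact hr.out.one_lt.ne' (hτ.symm.trans orderOf_one)
  have hcl : IsFieldAutClassPSL (Φ τ) := ⟨1, τ, hτ1, (isStdFieldAutPSL_iff _ _).2 (by simp)⟩
  have ho : orderOf (Φ τ) = r := (orderOf_slΦ (by simp) τ).trans hτ
  have hrf : r ∣ f := by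
    have := orderOf_dvd_natCard τ
    rwa [hτ, (ringAut_cyclic_card hF).2] at this
  have hfr : f / r ≠ 0 := (Nat.div_pos (Nat.le_of_dvd hf hrf) hr.out.pos).ne'
  let K := GaloisField p (f / r)
  letI : Fintype K := Fintype.ofFinite K
  have hK : Fintype.card K = p ^ (f / r) := by
    rw [← Nat.card_eq_fintype_card]; exact GaloisField.card p (f / r) hfr
  obtain ⟨-, ⟨e⟩, -⟩ := S2698.result hF hf le_rfl (fun _ => h3) (Φ τ) hcl hr.out ho K hK
  rw [inndiagPSL_eq] at e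
  have hq : Fintype.card F = Fintype.card K ^ r := by
    rw [hK, ← pow_mul, Nat.div_mul_cancel hrf]; exact hF
  have c1 : (♯((D).range ⊓ 𝐂[Φ τ]) : ℤ) = Fintype.card K * ((Fintype.card K : ℤ) ^ 2 - 1) := by
    rw [Nat.card_congr e.toEquiv, ← index_center_gl]; rfl
  have c2 := card_range_slD (F := F)
  have hle : S ≤ (D).range ⊓ 𝐂[Φ τ] := le_inf hS.le (le_cent1_iff.2 hc)
  have c3 : ¬ r ∣ ((D).range ⊓ 𝐂[Φ τ]).relIndex (D).range := fun h =>
    hS.not_dvd (h.trans (relIndex_dvd_of_le_left _ hle))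
  have c4 := card_mul_relIndex (inf_le_left : (D).range ⊓ 𝐂[Φ τ] ≤ (D).range)
  have c5 : (r : ℤ) ∣ Fintype.card F * ((Fintype.card F : ℤ) ^ 2 - 1) := by
    have d1 : Nat.card X ∣ Nat.card (GL (Fin 2) F) :=
      (card_quotient_dvd_card _).trans (card_dvd_of_injective (slJ (Fin 2) F) slJ_inj)
    have d2 : (r : ℤ) ∣ Nat.card (GL (Fin 2) F) := by exact_mod_cast hd.trans d1
    rw [card_gl] at d2
    rcases (Nat.prime_iff_prime_int.1 hr.out).dvd_or_dvd d2 with h | h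
    · exact h.trans ⟨Fintype.card F * (Fintype.card F + 1), by ring⟩
    · exact h
  rw [hq] at c2 c5
  push_cast at c2 c5
  have c6 := arith hr.out _ c5
  have c7 := congrArg (Nat.cast : ℕ → ℤ) c4
  rw [Nat.cast_mul, c2] at c7
  rw [← c7, ← c1, mul_comm, mul_dvd_mul_iff_left (by exact_mod_cast card_ne_zero _)] at c6
  exact c3 (by exact_mod_cast c6)

theorem even_exp_mod {p f : ℕ} (hp : p % 2 = 1) (hf : 2 ∣ f) : p ^ f % 8 = 1 := by
  obtain ⟨m, rfl⟩ := hf
  have h : p ^ 2 % 8 = 1 := by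
    have : p % 8 = 1 ∨ p % 8 = 3 ∨ p % 8 = 5 ∨ p % 8 = 7 := by omega
    rcases this with h | h | h | h <;> simp [Nat.pow_mod, h]
  rw [pow_mul, Nat.pow_mod, h]; simp

theorem psl_inner {r : ℕ} [hr : Fact r.Prime] (h3 : 3 < Fintype.card F)
    (h8 : Fintype.card F % 8 = 0 ∨ Fintype.card F % 8 = 3 ∨ Fintype.card F % 8 = 5)
    (hd : r ∣ Nat.card X) {R : Subgroup X} (hR : Syl r R ⊤) (hc : R ≤ 𝐂(R)) (α : MulAut X)
    {k : ℕ} (hα : orderOf α = r ^ k) (hfix : ∀ x ∈ R, α x = x) : α ∈ Inn X := by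
  classical
  have hIn : (Inn X).Normal := inn_normal
  have hDn : (D).range.Normal := slD_range_normal le_rfl
  have hR' : Syl r (R.map MulAut.conj) (Inn X) := by
    have := hR.map (MulAut.conj : X →* MulAut X)
    rwa [← MonoidHom.range_eq_map] at this
  have hc' : R.map MulAut.conj ≤ 𝐂(R.map (MulAut.conj : X →* MulAut X)) := by
    rintro _ ⟨x, hx, rfl⟩
    refine mem_cent_iff.2 ?_
    rintro _ ⟨y, hy, rfl⟩
    rw [← map_mul, ← map_mul, mem_cent_iff.1 (hc hx) y hy]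
  have hα' : α ∈ 𝐂(R.map (MulAut.conj : X →* MulAut X)) := by
    refine mem_cent_iff.2 ?_
    rintro _ ⟨y, hy, rfl⟩
    ext z
    simp [hfix y hy]
  have key := @abs_comm _ _ _ r _ _ _ _ α k hα hR' hc' hα'
  have hαΓ : α ∈ Inn X ⊔ zpowers α := mem_sup_right (mem_zpowers α)
  have hIΓ : Inn X ≤ Inn X ⊔ zpowers α := le_sup_left
  generalize Inn X ⊔ zpowers α = Γ at key hαΓ hIΓ
  have hαk : α ^ r ^ k = 1 := hα ▸ pow_orderOf_eq_one α
  obtain ⟨g, σ, e⟩ := psl_aut_two α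
  have hσ : σ ^ r ^ k = 1 := by
    refine eq_one_of_slΦ_mem (ι := Fin 2) (by simp) ((QuotientGroup.eq_one_iff _).1 ?_)
    have e1 : QuotientGroup.mk' (D).range (Φ σ) = QuotientGroup.mk' (D).range α := by
      rw [e, map_mul, QuotientGroup.mk'_apply _ (D g),
        (QuotientGroup.eq_one_iff (N := (D).range) (D g)).2 ⟨g, rfl⟩, one_mul]
    change QuotientGroup.mk' (D).range _ = 1
    rw [map_pow, map_pow, e1, ← map_pow, hαk, map_one]
  by_cases hA : r = 2 ∧ ringChar F ≠ 2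
  · obtain ⟨rfl, h2⟩ := hA
    have hp : Fact (ringChar F).Prime := ⟨CharP.char_is_prime F _⟩
    obtain ⟨⟨f, hf⟩, -, hF⟩ := FiniteField.card F (ringChar F)
    have hfo : ¬ 2 ∣ f := fun h => by
      have := even_exp_mod (hp.out.eq_two_or_odd.resolve_left h2) h
      change Fintype.card F = ringChar F ^ f at hF
      omega
    have hσ1 : σ = 1 := by
      have d1 := orderOf_dvd_natCard σ
      rw [(ringAut_cyclic_card hF).2] at d1
      exact orderOf_eq_one_iff.1 (Nat.eq_one_of_dvd_coprimes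
        (((Nat.Prime.coprime_iff_not_dvd Nat.prime_two).2 hfo).pow_left k)
        (orderOf_dvd_of_pow_eq_one hσ) d1)
    rw [hσ1, map_one, mul_one] at e
    by_contra hn
    have hg : ¬ IsSquare (g : Matrix (Fin 2) (Fin 2) F).det := fun h => hn (e ▸ slD_mem_inn h)
    have hDΓ : (D).range ≤ Γ := by
      rintro _ ⟨h, rfl⟩
      by_cases hh : IsSquare (h : Matrix (Fin 2) (Fin 2) F).det
      · exact hIΓ (slD_mem_inn hh)
      · have : D (h * g) ∈ Γ := hIΓ (slD_mem_inn (by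
          rw [Units.val_mul, det_mul]; exact sq_mul_of_not hh hg))
        rw [map_mul, ← e] at this
        exact (Γ.mul_mem_cancel_right hαΓ).1 this
    obtain ⟨Q, q1, q2, q3⟩ := exists_nonab (F := F) (Ring.two_ne_zero h2)
    exact q3 (key q1 (q2.trans hDΓ)).1
  have hodd : ∀ {A : Type _} [Group A] (H : Subgroup A) (x : A) (j : ℕ), r ≠ 2 → x ^ r ^ j = 1 →
      x ^ 2 ∈ H → x ∈ H := by
    intro A _ H x j h2 hx h
    obtain ⟨m, hm⟩ : Odd (r ^ j) := (hr.out.odd_of_ne_two h2).pow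
    have := H.pow_mem h (m + 1)
    rwa [← pow_mul, show 2 * (m + 1) = r ^ j + 1 by omega, pow_succ, hx, one_mul] at this
  have hB : ∀ x ∈ (D).range, ∀ j, x ^ r ^ j = 1 → x ∈ Inn X := by
    rintro _ ⟨h, rfl⟩ j hj
    by_cases h2 : r = 2
    · exact slD_mem_inn (FiniteField.isSquare_of_char_two (by tauto) _)
    · refine hodd _ _ j h2 hj ?_
      rw [← map_pow]
      exact slD_mem_inn ⟨_, by rw [sq, Units.val_mul, det_mul]⟩
  by_cases hσ1 : σ = 1
  · rw [hσ1, map_one, mul_one] at e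
    exact hB α ⟨g, e.symm⟩ k hαk
  exfalso
  obtain ⟨ρ, ρ1, ρ2, ρ3⟩ : ∃ ρ : F ≃+* F, ρ ≠ 1 ∧ ρ ^ r ^ k = 1 ∧ Φ ρ ∈ Γ := by
    by_cases h2 : r = 2
    · refine ⟨σ, hσ1, hσ, ?_⟩
      rw [e] at hαΓ
      exact (Γ.mul_mem_cancel_left (hIΓ (slD_mem_inn
        (FiniteField.isSquare_of_char_two (by tauto) _)))).1 hαΓ
    · refine ⟨σ ^ 2, fun h => hσ1 (mem_bot.1 (hodd ⊥ σ k h2 hσ (mem_bot.2 h))), ?_, ?_⟩
      · rw [← pow_mul, mul_comm, pow_mul, hσ, one_pow]
      · have e2 : α ^ 2 = D (g * glField (Fin 2) F σ g) * Φ (σ ^ 2) := by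
          rw [e, map_mul, ← slΦ_conj, map_pow, sq, sq]; group
        have := Γ.pow_mem hαΓ 2
        rw [e2] at this
        refine (Γ.mul_mem_cancel_left (hIΓ (slD_mem_inn ?_))).1 this
        rw [Units.val_mul, det_mul, det_glField]
        exact sq_mul_aut σ _
  have hrd : r ∣ orderOf ρ := by
    obtain ⟨j, -, hj⟩ := (Nat.dvd_prime_pow hr.out).1 (orderOf_dvd_of_pow_eq_one ρ2)
    rw [hj]
    refine dvd_pow_self r ?_
    rintro rfl
    exact ρ1 (orderOf_eq_one_iff.1 hj)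
  have hτ := orderOf_pow_orderOf_div (isOfFinOrder_iff_pow_eq_one.2
    ⟨_, pow_pos hr.out.pos k, ρ2⟩).orderOf_pos.ne' hrd
  have hτΓ : Φ (ρ ^ (orderOf ρ / r)) ∈ Γ := by rw [map_pow]; exact Γ.pow_mem ρ3 _
  generalize ρ ^ (orderOf ρ / r) = τ at hτ hτΓ
  have hZ : IsPGroup r (zpowers (Φ τ)) := IsPGroup.iff_card.2 ⟨1, by
    rw [Nat.card_zpowers, orderOf_slΦ (by simp), hτ, pow_one]⟩
  obtain ⟨-, S, hS, hc⟩ := key hZ ((zpowers_le (G := MulAut X)).2 hτΓ)
  have hID : Inn X ≤ (D).range := by rw [inn_psl_eq]; exact map_le_range _ _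
  refine no_field h3 hd hτ (S := S) ?_ (hc (mem_zpowers _))
  refine H1.isSylowIn_of_maximal hS.isPGroup (hS.le.trans hID) fun Q q1 q2 q3 =>
    hS.eq_of_le q1 q2 fun x hx => ?_
  obtain ⟨j, hj⟩ := q1 ⟨x, hx⟩
  exact hB x (q3 hx) j (congrArg Subtype.val hj)

/-- the form needed for a group isomorphic to `PSL₂(q)` -/
theorem inner_of_iso {G : Type*} [Group G] [Finite G] (h3 : 3 < Fintype.card F)
    (h8 : Fintype.card F % 8 = 0 ∨ Fintype.card F % 8 = 3 ∨ Fintype.card F % 8 = 5)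
    (e : G ≃* X) (r : ℕ) [Fact r.Prime] (hr : r ∣ Nat.card G) (α : G ≃* G) (k : ℕ)
    (hα : orderOf α = r ^ k) (R : Sylow r G) (hc : IsMulCommutative ↥R)
    (hR : ∀ x ∈ (R : Subgroup G), α x = x) : ∃ g : G, ∀ x : G, α x = g * x * g⁻¹ := by
  have h1 : Syl r ((R : Subgroup G).map e.toMonoidHom) ⊤ := by
    have := (H1.sylow_isSylowIn_top R).map e.toMonoidHom
    rwa [map_top_of_surjective _ e.surjective] at this
  obtain ⟨y, hy⟩ := psl_inner h3 h8 (Nat.card_congr e.toEquiv ▸ hr) h1 (by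
      rintro _ ⟨x, hx, rfl⟩
      refine mem_cent_iff.2 ?_
      rintro _ ⟨y, hy, rfl⟩
      rw [← map_mul, ← map_mul, mem_cent_iff.1 (comm_iff_le_cent.1 hc hx) y hy])
    (MulAut.congr e α) (k := k) ((MulEquiv.orderOf_eq _ _).trans hα) (by
      rintro _ ⟨x, hx, rfl⟩
      simp [hR x hx])
  refine ⟨e.symm y, fun x => e.injective ?_⟩
  have := DFunLike.congr_fun hy (e x)
  simpa using this.symm

end Cfsg.Agent.OutL2
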