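import Cfsg.Agent.H2.OutJ1
import Cfsg.Agent.H2.OutL2

/-! Statement 2555 from the classification of simple groups with abelian Sylow subgroups. -/

set_option autoImplicit false

namespace Cfsg.Agent.OutL2

open Subgroup Cfsg.Agent.FT

theorem s2555_of {G : Type*} [Group G] [Finite G] [IsSimpleGroup G]
    (hA : ∀ (p : ℕ), p.Prime → ∀ (P : Sylow p G), IsMulCommutative ↥P)
    (hcl : (∃ t : G, orderOf t = 2 ∧ Nonempty (centralizer ({t} : Set G) ≃*
        Multiplicative (ZMod 2) × alternatingGroup (Fin 5))) ∨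
      ∃ (F : Type) (_ : Field F) (_ : Fintype F), 3 < Fintype.card F ∧
        (Fintype.card F % 8 = 0 ∨ Fintype.card F % 8 = 3 ∨ Fintype.card F % 8 = 5) ∧
        Nonempty (G ≃* Matrix.ProjectiveSpecialLinearGroup (Fin 2) F))
    (r : ℕ) [hp : Fact r.Prime] (hr : r ∣ Nat.card G) (α : G ≃* G) (k : ℕ)
    (hα : orderOf α = r ^ k) (R : Sylow r G) (hR : ∀ x ∈ (R : Subgroup G), α x = x) :
    ∃ g : G, ∀ x : G, α x = g * x * g⁻¹ := by
  rcases hcl with ⟨t, ht, ⟨e⟩⟩ | ⟨F, _, _, h3, h8, ⟨e⟩⟩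
  · have hZ : IsPGroup 2 (zpowers t) := IsPGroup.iff_card.2 ⟨1, by rw [Nat.card_zpowers, ht]; rfl⟩
    obtain ⟨P, hP⟩ := hZ.exists_le_sylow
    have htP : t ∈ (P : Subgroup G) := hP (mem_zpowers t)
    refine H8.J1.inner_of_cent ht ⟨P, htP, fun x hx => ?_⟩ e α
    exact mem_cent_iff.1 (comm_iff_le_cent.1 (hA 2 Nat.prime_two P) htP) x hx
  · exact inner_of_iso h3 h8 e r hr α k hα R (hA r hp.out R) hR

end Cfsg.Agent.OutL2
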