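import Mathlib.Algebra.Group.Graph
import Cfsg.Agent.H2.MaxClass
import Cfsg.Prelude.Def_Transfer

/-! Extraspecial groups: splitting off a factor of order `p ^ 3`, and isomorphism theorems. -/

set_option autoImplicit false

namespace Cfsg.Agent.H2

open Subgroup
open scoped commutatorElement

universe u v

variable {G : Type*} [Group G] {G' : Type*} [Group G']

/-- `G` is extraspecial, or cyclic of order `p`, with centre generated by `z`. -/
structure ES (p : ℕ) (z : G) : Prop where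
  ord : orderOf z = p
  cen : center G = zpowers z
  comm : ∀ x y : G, ⁅x, y⁆ ∈ zpowers z
  pow : ∀ x : G, x ^ p ∈ zpowers z

theorem exists_ES_of_isExtraspecial [Finite G] {p : ℕ} [hp : Fact p.Prime]
    (h : IsExtraspecial p G) : ∃ z : G, ES p z ∧ ∃ x : G, x ∉ zpowers z := by
  obtain ⟨⟨hP, h1, h2⟩, h3⟩ := h
  obtain ⟨z, hz⟩ := (Subgroup.isCyclic_iff_exists_zpowers_eq_top _).mp (isCyclic_of_prime_card h3)
  refine ⟨z, ⟨by rw [← Nat.card_zpowers, hz, h3], hz.symm, fun x y => ?_, fun x => ?_⟩, ?_⟩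
  · rw [hz, ← h2]; exact commutator_mem_commutator trivial trivial
  · rw [hz, ← h1]; exact pow_mem_frattini hP x
  · by_contra hcon
    push Not at hcon
    have h4 := (commutator_eq_bot_iff_center_eq_top G).mpr (hz ▸ eq_top_iff.mpr fun x _ => hcon x)
    rw [← h2, h4, card_bot] at h3
    exact hp.out.ne_one h3.symm

theorem mem_zpowers_of_orderOf_prime {p : ℕ} [hp : Fact p.Prime] {z w : G} (hz : orderOf z = p)
    (hw : w ∈ zpowers z) (h1 : w ≠ 1) : z ∈ zpowers w := by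
  have : Fact (Nat.card (zpowers z)).Prime := ⟨by rw [Nat.card_zpowers, hz]; exact hp.out⟩
  have h := mem_zpowers_of_prime_card (G := zpowers z) (p := p) (by rw [Nat.card_zpowers, hz])
    (g := ⟨w, hw⟩) (g' := ⟨z, mem_zpowers z⟩) (fun h => h1 (congrArg Subtype.val h))
  obtain ⟨i, hi⟩ := h
  exact ⟨i, congrArg Subtype.val hi⟩

/-- The common centralizer of two elements. -/
abbrev cent2 (x y : G) : Subgroup G := centralizer {x} ⊓ centralizer {y}

theorem mem_cent2 {x y c : G} : c ∈ cent2 x y ↔ Commute c x ∧ Commute c y := by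
  rw [mem_inf, mem_centralizer_singleton_iff, mem_centralizer_singleton_iff]; rfl

namespace ES

variable {p : ℕ} {z : G} {z' : G'}

theorem mem_center (h : ES p z) : z ∈ center G := h.cen ▸ mem_zpowers z

theorem commute (h : ES p z) (g : G) : Commute g z := mem_center_iff.mp h.mem_center g

theorem commute_of_mem (h : ES p z) (g : G) {w : G} (hw : w ∈ zpowers z) : Commute g w :=
  mem_center_iff.mp (h.cen ▸ hw) g

theorem commute_commutator (h : ES p z) (g x y : G) : Commute g ⁅x, y⁆ :=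
  h.commute_of_mem g (h.comm x y)

theorem pow_eq_one (h : ES p z) : z ^ p = 1 := h.ord ▸ pow_orderOf_eq_one z

theorem ne_one [hp : Fact p.Prime] (h : ES p z) : z ≠ 1 := fun h1 => by
  have := h.ord
  rw [h1, orderOf_one] at this
  exact hp.out.ne_one this.symm

theorem isPGroup (h : ES p z) : IsPGroup p G := fun x => ⟨2, by
  obtain ⟨i, hi⟩ := h.pow x
  simp only at hi
  rw [sq, pow_mul, ← hi, ← zpow_natCast, ← zpow_mul, mul_comm, zpow_mul, zpow_natCast,
    h.pow_eq_one, one_zpow]⟩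

theorem card_center (h : ES p z) : Nat.card (center G) = p := by
  rw [h.cen, Nat.card_zpowers, h.ord]

theorem mem_cent2 (h : ES p z) (x y : G) : z ∈ cent2 x y :=
  H2.mem_cent2.mpr ⟨(h.commute x).symm, (h.commute y).symm⟩

theorem isExtraspecial [Finite G] [hp : Fact p.Prime] (h : ES p z) {x : G} (hx : x ∉ zpowers z) :
    IsExtraspecial p G := by
  have h1 : commutator G ≤ center G := by
    rw [h.cen, _root_.commutator_def, commutator_le]; exact fun x _ y _ => h.comm x y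
  have h2 : commutator G = center G := by
    refine (eq_or_eq_of_card_eq_mul_prime (p := p) bot_le h1
      (by rw [h.card_center, card_bot, one_mul])).resolve_left fun h2 => hx ?_
    rw [← h.cen, (commutator_eq_bot_iff_center_eq_top G).mp h2]; trivial
  exact ⟨⟨h.isPGroup, le_antisymm ((frattini_le_iff h.isPGroup).mpr ⟨h1, fun x => h.cen ▸ h.pow x⟩)
    (h2 ▸ commutator_le_frattini h.isPGroup), h2⟩, h.card_center⟩

theorem exists_partner [Fact p.Prime] (h : ES p z) {x : G} (hx : x ∉ zpowers z) :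
    ∃ y, ⁅x, y⁆ = z := by
  rw [← h.cen, mem_center_iff] at hx
  push Not at hx
  obtain ⟨y, hy⟩ := hx
  obtain ⟨i, hi⟩ := mem_zpowers_of_orderOf_prime h.ord (h.comm x y)
    fun h1 => hy (commutatorElement_eq_one_iff_mul_comm.mp h1).symm
  exact ⟨y ^ i, by rw [commutator_zpow_right_of_commute (h.commute_commutator _ _ _)]; exact hi⟩

/-- Commutation with a fixed element is a homomorphism. -/
def commHom (h : ES p z) (y : G) : G →* G :=
  MonoidHom.mk' (fun x => ⁅x, y⁆) fun a b => by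
    rw [commutator_mul_left_of_commute (h.commute_commutator _ _ _),
      (h.commute_commutator _ _ _).eq]

theorem commHom_apply (h : ES p z) (x y : G) : h.commHom y x = ⁅x, y⁆ := rfl

theorem commutator_mul_left (h : ES p z) (a b y : G) : ⁅a * b, y⁆ = ⁅a, y⁆ * ⁅b, y⁆ :=
  map_mul (h.commHom y) a b

theorem commutator_mul_right (h : ES p z) (a b y : G) : ⁅y, a * b⁆ = ⁅y, a⁆ * ⁅y, b⁆ :=
  commutator_mul_right_of_commute (h.commute_commutator _ _ _)

theorem commutator_zpow_left (h : ES p z) (a y : G) (i : ℤ) : ⁅a ^ i, y⁆ = ⁅a, y⁆ ^ i :=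
  map_zpow (h.commHom y) a i

theorem commutator_nf_right (h : ES p z) {x y : G} (hxy : ⁅x, y⁆ = z) (i j : ℤ) {c : G}
    (hc : c ∈ cent2 x y) : ⁅x ^ i * y ^ j * c, y⁆ = z ^ i := by
  rw [h.commutator_mul_left, h.commutator_mul_left, h.commutator_zpow_left, h.commutator_zpow_left,
    hxy, commutatorElement_self, one_zpow, mul_one,
    commutatorElement_eq_one_iff_commute.mpr (H2.mem_cent2.mp hc).2, mul_one]

theorem commutator_nf_left (h : ES p z) {x y : G} (hxy : ⁅x, y⁆ = z) (i j : ℤ) {c : G}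
    (hc : c ∈ cent2 x y) : ⁅x ^ i * y ^ j * c, x⁆ = z ^ (-j) := by
  rw [h.commutator_mul_left, h.commutator_mul_left, h.commutator_zpow_left, h.commutator_zpow_left,
    ← commutatorElement_inv x y, hxy, commutatorElement_self, one_zpow, one_mul,
    commutatorElement_eq_one_iff_commute.mpr (H2.mem_cent2.mp hc).1, mul_one, inv_zpow']

theorem exists_nf (h : ES p z) {x y : G} (hxy : ⁅x, y⁆ = z) (g : G) :
    ∃ i j : ℤ, ∃ c ∈ cent2 x y, g = x ^ i * y ^ j * c := by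
  obtain ⟨a, ha⟩ := h.comm g x
  obtain ⟨b, hb⟩ := h.comm g y
  simp only at ha hb
  refine ⟨b, -a, (x ^ b * y ^ (-a))⁻¹ * g, H2.mem_cent2.mpr ⟨?_, ?_⟩, by group⟩
  · rw [← commutatorElement_eq_one_iff_commute, ← h.commHom_apply, map_mul, map_inv,
      h.commHom_apply, h.commHom_apply, ← mul_one (x ^ b * y ^ (-a)),
      h.commutator_nf_left hxy _ _ (one_mem _), neg_neg, ha, inv_mul_cancel]
  · rw [← commutatorElement_eq_one_iff_commute, ← h.commHom_apply, map_mul, map_inv,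
      h.commHom_apply, h.commHom_apply, ← mul_one (x ^ b * y ^ (-a)),
      h.commutator_nf_right hxy _ _ (one_mem _), hb, inv_mul_cancel]

theorem sub (h : ES p z) {x y : G} (hxy : ⁅x, y⁆ = z) :
    ES p (⟨z, h.mem_cent2 x y⟩ : cent2 x y) := by
  have key : ∀ c : cent2 x y, (c : G) ∈ zpowers z →
      c ∈ zpowers (⟨z, h.mem_cent2 x y⟩ : cent2 x y) := by
    rintro c ⟨i, hi⟩
    exact ⟨i, Subtype.ext hi⟩
  refine ⟨by rw [← orderOf_coe]; exact h.ord, le_antisymm (fun c hc => key c ?_)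
    (zpowers_le.mpr (mem_center_iff.mpr fun g => Subtype.ext (h.commute g))),
    fun a b => key _ (h.comm a b), fun a => key _ (h.pow a)⟩
  rw [← h.cen, mem_center_iff]
  intro g
  obtain ⟨i, j, d, hd, rfl⟩ := h.exists_nf hxy g
  have h1 := H2.mem_cent2.mp c.2
  exact (((h1.1.zpow_right i).mul_right (h1.2.zpow_right j)).mul_right
    (congrArg Subtype.val (mem_center_iff.mp hc ⟨d, hd⟩)).symm).symm

theorem index_cent2 (h : ES p z) {x y : G} (hxy : ⁅x, y⁆ = z) : (cent2 x y).index = p ^ 2 := by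
  have h1 : ((h.commHom x).prod (h.commHom y)).ker = cent2 x y := by
    ext c
    rw [MonoidHom.mem_ker, H2.mem_cent2, MonoidHom.prod_apply, Prod.mk_eq_one, h.commHom_apply,
      h.commHom_apply, commutatorElement_eq_one_iff_commute, commutatorElement_eq_one_iff_commute]
  have h2 : ((h.commHom x).prod (h.commHom y)).range = (zpowers z).prod (zpowers z) := by
    apply le_antisymm
    · rintro _ ⟨c, rfl⟩
      exact ⟨h.comm _ _, h.comm _ _⟩
    · rintro ⟨_, _⟩ ⟨⟨i, rfl⟩, ⟨j, rfl⟩⟩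
      refine ⟨x ^ j * y ^ (-i) * 1, ?_⟩
      rw [MonoidHom.prod_apply, h.commHom_apply, h.commHom_apply,
        h.commutator_nf_left hxy _ _ (one_mem _), h.commutator_nf_right hxy _ _ (one_mem _),
        neg_neg]
  rw [← h1, index_ker, h2, Nat.card_congr (prodEquiv _ _).toEquiv, Nat.card_prod, Nat.card_zpowers,
    h.ord, sq]

theorem card_cent2 (h : ES p z) {x y : G} (hxy : ⁅x, y⁆ = z) :
    Nat.card (cent2 x y) * p ^ 2 = Nat.card G := by
  rw [← h.index_cent2 hxy, card_mul_index]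

theorem card_cent2_lt [Finite G] [hp : Fact p.Prime] (h : ES p z) {x y : G} (hxy : ⁅x, y⁆ = z) :
    Nat.card (cent2 x y) < Nat.card G := by
  rw [← h.card_cent2 hxy]
  exact lt_mul_of_one_lt_right Nat.card_pos (Nat.one_lt_pow two_ne_zero hp.out.one_lt)

theorem zpow_mul_zpow (h : ES p z) {x y : G} (hxy : ⁅x, y⁆ = z) (j k : ℤ) :
    y ^ j * x ^ k = x ^ k * y ^ j * z ^ (-(j * k)) := by
  have h1 : ⁅y ^ j, x ^ k⁆ = z ^ (-(j * k)) := by
    rw [h.commutator_zpow_left, commutator_zpow_right_of_commute (h.commute_commutator _ _ _),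
      ← commutatorElement_inv x y, hxy, ← zpow_mul, inv_zpow', mul_comm]
  rw [((h.commute _).zpow_right _).eq, ← h1, commutatorElement_def]
  group

theorem nf_mul (h : ES p z) {x y : G} (hxy : ⁅x, y⁆ = z) (i j k l : ℤ) {c : G}
    (hc : c ∈ cent2 x y) (d : G) : x ^ i * y ^ j * c * (x ^ k * y ^ l * d) =
      x ^ (i + k) * y ^ (j + l) * (z ^ (-(j * k)) * c * d) := by
  have h1 := H2.mem_cent2.mp hc
  calc x ^ i * y ^ j * c * (x ^ k * y ^ l * d)
      = x ^ i * y ^ j * (c * (x ^ k * y ^ l)) * d := by group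
    _ = x ^ i * (y ^ j * x ^ k) * y ^ l * c * d := by
        rw [((h1.1.zpow_right k).mul_right (h1.2.zpow_right l)).eq]; group
    _ = x ^ i * x ^ k * y ^ j * (z ^ (-(j * k)) * y ^ l) * c * d := by
        rw [h.zpow_mul_zpow hxy]; group
    _ = _ := by rw [← ((h.commute (y ^ l)).zpow_right _).eq]; group

theorem glue_aux (h : ES p z) {x y : G} (hxy : ⁅x, y⁆ = z) {x' y' : G'}
    {a b : ℤ} (ha : x ^ p = z ^ a) (hb : y ^ p = z ^ b) (ha' : x' ^ p = z' ^ a)
    (hb' : y' ^ p = z' ^ b) {C' : Subgroup G'} (β : cent2 x y →* C')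
    (hβ : (β ⟨z, h.mem_cent2 x y⟩ : G') = z') (i j : ℤ) (c : cent2 x y)
    (h1 : x ^ i * y ^ j * c = 1) : x' ^ i * y' ^ j * β c = 1 := by
  have h2 := h.commutator_nf_right hxy i j c.2
  have h3 := h.commutator_nf_left hxy i j c.2
  rw [h1, commutatorElement_one_left, eq_comm, ← orderOf_dvd_iff_zpow_eq_one, h.ord] at h2 h3
  obtain ⟨i, rfl⟩ := h2
  obtain ⟨j, rfl⟩ := dvd_neg.mp h3
  rw [zpow_mul, zpow_mul, zpow_natCast, zpow_natCast] at h1 ⊢
  rw [ha, hb, ← zpow_mul, ← zpow_mul, ← zpow_add] at h1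
  rw [ha', hb', ← zpow_mul, ← zpow_mul, ← zpow_add, ← hβ, ← coe_zpow, ← map_zpow, ← coe_mul,
    ← map_mul, show (⟨z, h.mem_cent2 x y⟩ : cent2 x y) ^ (a * i + b * j) * c = 1 from
      Subtype.ext h1, map_one, coe_one]

/-- Gluing an isomorphism of the centralizers to a correspondence of hyperbolic pairs. -/
theorem glue (h : ES p z) (h' : ES p z') {x y : G} (hxy : ⁅x, y⁆ = z) {x' y' : G'}
    (hxy' : ⁅x', y'⁆ = z') {a b : ℤ} (ha : x ^ p = z ^ a) (hb : y ^ p = z ^ b)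
    (ha' : x' ^ p = z' ^ a) (hb' : y' ^ p = z' ^ b) (β : cent2 x y ≃* cent2 x' y')
    (hβ : β ⟨z, h.mem_cent2 x y⟩ = ⟨z', h'.mem_cent2 x' y'⟩) :
    ∃ e : G ≃* G', e z = z' ∧ e x = x' ∧ e y = y' ∧ ∀ c : cent2 x y, e c = β c := by
  let Γ : Subgroup (G × G') :=
    { carrier := {g | ∃ i j : ℤ, ∃ c : cent2 x y, g = (x ^ i * y ^ j * c, x' ^ i * y' ^ j * β c)}
      one_mem' := ⟨0, 0, 1, Prod.ext (by simp) (by simp)⟩
      mul_mem' := by
        rintro _ _ ⟨i, j, c, rfl⟩ ⟨k, l, d, rfl⟩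
        refine ⟨i + k, j + l, ⟨z, h.mem_cent2 x y⟩ ^ (-(j * k)) * c * d, ?_⟩
        rw [Prod.mk_mul_mk, h.nf_mul hxy _ _ _ _ c.2, h'.nf_mul hxy' _ _ _ _ (β c).2, map_mul,
          map_mul, map_zpow, hβ]
        rfl
      inv_mem' := by
        rintro _ ⟨i, j, c, rfl⟩
        refine ⟨-i, -j, c⁻¹ * ⟨z, h.mem_cent2 x y⟩ ^ (-(j * i)), inv_eq_of_mul_eq_one_right ?_⟩
        rw [Prod.mk_mul_mk, h.nf_mul hxy _ _ _ _ c.2, h'.nf_mul hxy' _ _ _ _ (β c).2, map_mul,
          map_inv, map_zpow, hβ]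
        simp [mul_assoc] }
  refine (Subgroup.exists_mulEquiv_eq_graph (G := Γ) ⟨?_, ?_⟩ ⟨?_, ?_⟩).imp fun e he => ?_
  rotate_right
  · have key : ∀ i j : ℤ, ∀ c : cent2 x y, e (x ^ i * y ^ j * c) = x' ^ i * y' ^ j * β c :=
      fun i j c => (he.le (show (_, _) ∈ Γ from ⟨i, j, c, rfl⟩) : _)
    have h1 : ∀ c : cent2 x y, e c = β c := fun c => by simpa using key 0 0 c
    refine ⟨?_, by simpa using key 1 0 1, by simpa using key 0 1 1, h1⟩
    exact (h1 ⟨z, h.mem_cent2 x y⟩).trans (congrArg Subtype.val hβ)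
  · refine (injective_iff_map_eq_one ((MonoidHom.fst G G').comp Γ.subtype)).mpr ?_
    rintro ⟨_, i, j, c, rfl⟩ h1
    exact Subtype.ext (Prod.ext h1 (h.glue_aux hxy ha hb ha' hb' β.toMonoidHom
      (congrArg Subtype.val hβ) i j c h1))
  · intro g
    obtain ⟨i, j, c, hc, rfl⟩ := h.exists_nf hxy g
    exact ⟨⟨_, i, j, ⟨c, hc⟩, rfl⟩, rfl⟩
  · refine (injective_iff_map_eq_one ((MonoidHom.snd G G').comp Γ.subtype)).mpr ?_
    rintro ⟨_, i, j, c, rfl⟩ h1
    refine Subtype.ext (Prod.ext ?_ h1)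
    simpa using h'.glue_aux hxy' ha' hb' ha hb β.symm.toMonoidHom
      (congrArg Subtype.val (β.symm_apply_eq.mpr hβ.symm)) i j (β c) h1
  · intro g
    obtain ⟨i, j, c, hc, rfl⟩ := h'.exists_nf hxy' g
    exact ⟨⟨_, i, j, β.symm ⟨c, hc⟩, rfl⟩, by simp⟩

theorem exists_equiv_of_cyclic (h : ES p z) (h' : ES p z') (h1 : ∀ x, x ∈ zpowers z)
    (h2 : ∀ x, x ∈ zpowers z') : ∃ e : G ≃* G', e z = z' :=
  ⟨mulEquivOfOrderOfEq h1 h2 (h.ord.trans h'.ord.symm), mulEquivOfOrderOfEq_apply_gen _ _ _⟩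

theorem forall_mem_iff [Finite G] (h : ES p z) : (∀ x, x ∈ zpowers z) ↔ Nat.card G = p := by
  rw [← h.ord, ← Nat.card_zpowers, ← eq_top_iff', ← card_eq_iff_eq_top, eq_comm]

end ES

/-- Extraspecial groups of exponent `p` are determined by their order. -/
theorem ES.exists_equiv_of_exponent {p : ℕ} [hp : Fact p.Prime] (n : ℕ) :
    ∀ (G : Type u) [Group G] [Finite G] (G' : Type v) [Group G'] [Finite G'] (z : G) (z' : G'),
    Nat.card G ≤ n → ES p z → ES p z' → (∀ x : G, x ^ p = 1) → (∀ x : G', x ^ p = 1) →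
    Nat.card G = Nat.card G' → ∃ e : G ≃* G', e z = z' := by
  induction n with
  | zero => intro G _ _ _ _ _ _ _ h; exact absurd h (Nat.not_le.mpr Nat.card_pos)
  | succ n ih =>
    intro G _ _ G' _ _ z z' hn h h' he he' hc
    by_cases h1 : ∀ x, x ∈ zpowers z
    · exact h.exists_equiv_of_cyclic h' h1 (h'.forall_mem_iff.mpr (hc ▸ h.forall_mem_iff.mp h1))
    have h2 : ¬ ∀ x, x ∈ zpowers z' := fun h2 =>
      h1 (h.forall_mem_iff.mpr (hc ▸ h'.forall_mem_iff.mp h2))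
    push Not at h1 h2
    obtain ⟨x, hx⟩ := h1
    obtain ⟨x', hx'⟩ := h2
    obtain ⟨y, hy⟩ := h.exists_partner hx
    obtain ⟨y', hy'⟩ := h'.exists_partner hx'
    obtain ⟨β, hβ⟩ := ih _ _ _ _ (Nat.le_of_lt_succ ((h.card_cent2_lt hy).trans_le hn)) (h.sub hy)
      (h'.sub hy') (fun c => Subtype.ext (he c)) (fun c => Subtype.ext (he' c))
      (Nat.eq_of_mul_eq_mul_right (Nat.pow_pos hp.out.pos)
        (by rw [h.card_cent2 hy, h'.card_cent2 hy', hc]))
    obtain ⟨e, h3, -⟩ := h.glue h' hy hy' (a := 0) (b := 0) (by simp [he]) (by simp [he])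
      (by simp [he']) (by simp [he']) β hβ
    exact ⟨e, h3⟩

/-! ### The prime two -/

/-- The number of solutions of `x ^ 2 = w`. -/
noncomputable def nsq (w : G) : ℕ := Nat.card {x : G // x ^ 2 = w}

namespace ES

variable {z : G} {z' : G'}

theorem mem_zpowers_iff_two (h : ES 2 z) {w : G} : w ∈ zpowers z ↔ w = 1 ∨ w = z :=
  ⟨fun ⟨i, hi⟩ => hi ▸ zpow_eq_one_or_self h.pow_eq_one i,
    fun h1 => h1.elim (fun h1 => h1 ▸ one_mem _) (fun h1 => h1 ▸ mem_zpowers _)⟩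

theorem sq_cases (h : ES 2 z) (x : G) : x ^ 2 = 1 ∨ x ^ 2 = z := h.mem_zpowers_iff_two.mp (h.pow x)

theorem comm_cases (h : ES 2 z) (x y : G) : ⁅x, y⁆ = 1 ∨ ⁅x, y⁆ = z :=
  h.mem_zpowers_iff_two.mp (h.comm x y)

theorem mul_self (h : ES 2 z) : z * z = 1 := by rw [← sq, h.pow_eq_one]

theorem inv_eq (h : ES 2 z) : z⁻¹ = z := inv_eq_of_mul_eq_one_left h.mul_self

theorem commutator_symm (h : ES 2 z) (x y : G) : ⁅x, y⁆ = ⁅y, x⁆ := by
  rw [← commutatorElement_inv x y]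
  rcases h.comm_cases x y with h1 | h1 <;> rw [h1]
  · rw [inv_one]
  · rw [h.inv_eq]

theorem mul_sq (h : ES 2 z) (x y : G) : (x * y) ^ 2 = x ^ 2 * y ^ 2 * ⁅x, y⁆ := by
  rw [mul_pow_of_commute_commutator (h.commute_commutator _ _ _) (h.commute_commutator _ _ _),
    Nat.choose_self, pow_one, h.commutator_symm]

theorem nsq_add [Finite G] (h : ES 2 z) : nsq (1 : G) + nsq z = Nat.card G := by
  classical
  rw [← Nat.card_congr (Equiv.sumCompl fun x : G => x ^ 2 = 1), Nat.card_sum]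
  congr 1
  refine Nat.card_congr (Equiv.subtypeEquivRight fun x => ⟨fun h1 h2 => h.ne_one (h1.symm.trans h2),
    fun h1 => (h.sq_cases x).resolve_left h1⟩)

theorem exists_partner_sq (h : ES 2 z) {x : G} (hx : x ∉ zpowers z) (hx2 : x ^ 2 = 1) :
    ∃ y, ⁅x, y⁆ = z ∧ y ^ 2 = 1 := by
  obtain ⟨y, hy⟩ := h.exists_partner hx
  rcases h.sq_cases y with h1 | h1
  · exact ⟨y, hy, h1⟩
  · exact ⟨x * y, by rw [h.commutator_mul_right, hy, commutatorElement_self, one_mul],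
      by rw [h.mul_sq, hx2, h1, hy, one_mul, h.mul_self]⟩

theorem nsq_eq_of_pair [Finite G] (h : ES 2 z) {x y : G} (hxy : ⁅x, y⁆ = z) (hx : x ^ 2 = 1)
    (hy : y ^ 2 = 1) : nsq (1 : G) = 2 * nsq (1 : cent2 x y) + Nat.card (cent2 x y) := by
  let f : (Fin 2 × Fin 2) × cent2 x y → G := fun t => x ^ (t.1.1 : ℕ) * y ^ (t.1.2 : ℕ) * t.2
  have hf : Function.Bijective f := by
    rw [Nat.bijective_iff_surjective_and_card]
    refine ⟨fun g => ?_, by simp [← h.card_cent2 hxy, mul_comm]⟩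
    obtain ⟨i, j, c, hc, rfl⟩ := h.exists_nf hxy g
    rcases zpow_eq_one_or_self hx i with h1 | h1 <;> rcases zpow_eq_one_or_self hy j with h2 | h2 <;>
      rw [h1, h2]
    exacts [⟨((0, 0), ⟨c, hc⟩), by simp [f]⟩, ⟨((0, 1), ⟨c, hc⟩), by simp [f]⟩,
      ⟨((1, 0), ⟨c, hc⟩), by simp [f]⟩, ⟨((1, 1), ⟨c, hc⟩), by simp [f]⟩]
  have h1 : ∀ (a : G) (c : cent2 x y), Commute a c → a ^ 2 = 1 →
      ((a * c) ^ 2 = 1 ↔ c ^ 2 = 1) := fun a c h1 h2 => by
    rw [h1.mul_pow, h2, one_mul, ← coe_pow, OneMemClass.coe_eq_one]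
  have hc := fun c : cent2 x y => H2.mem_cent2.mp c.2
  rw [nsq, ← Nat.card_congr ((Equiv.ofBijective f hf).subtypeEquiv
    (p := fun t => f t ^ 2 = 1) fun _ => Iff.rfl),
    Nat.card_congr (Equiv.subtypeProdEquivSigmaSubtype fun a c => f (a, c) ^ 2 = 1),
    Nat.card_sigma, Fintype.sum_prod_type, Fin.sum_univ_two, Fin.sum_univ_two, Fin.sum_univ_two,
    ← (h.sub hxy).nsq_add]
  have e1 : Nat.card {c : cent2 x y // f ((0, 0), c) ^ 2 = 1} = nsq (1 : cent2 x y) :=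
    Nat.card_congr (Equiv.subtypeEquivRight fun c => by
      simpa [f] using h1 1 c (Commute.one_left _) (one_pow _))
  have e2 : Nat.card {c : cent2 x y // f ((0, 1), c) ^ 2 = 1} = nsq (1 : cent2 x y) :=
    Nat.card_congr (Equiv.subtypeEquivRight fun c => by simpa [f] using h1 y c (hc c).2.symm hy)
  have e3 : Nat.card {c : cent2 x y // f ((1, 0), c) ^ 2 = 1} = nsq (1 : cent2 x y) :=
    Nat.card_congr (Equiv.subtypeEquivRight fun c => by simpa [f] using h1 x c (hc c).1.symm hx)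
  have e4 : Nat.card {c : cent2 x y // f ((1, 1), c) ^ 2 = 1} =
      nsq (⟨z, h.mem_cent2 x y⟩ : cent2 x y) :=
    Nat.card_congr (Equiv.subtypeEquivRight fun c => by
      have : f ((1, 1), c) = x * y * c := by simp [f]
      rw [this, ((hc c).1.mul_right (hc c).2).symm.mul_pow, h.mul_sq, hx, hy, hxy, one_mul, one_mul,
        mul_eq_one_iff_inv_eq, h.inv_eq, Subtype.ext_iff, coe_pow, eq_comm])
  rw [e1, e2, e3, e4]
  ring

theorem two_le_nsq [Finite G] (h : ES 2 z) : 2 ≤ nsq (1 : G) := by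
  have : Nontrivial {x : G // x ^ 2 = 1} :=
    ⟨⟨⟨1, one_pow _⟩, ⟨z, h.pow_eq_one⟩, fun h1 => h.ne_one (congrArg Subtype.val h1).symm⟩⟩
  exact Finite.one_lt_card

theorem nsq_eq_two (h : ES 2 z) (h1 : ∀ x : G, x ^ 2 = 1 → x ∈ zpowers z) : nsq (1 : G) = 2 := by
  rw [← h.ord, ← Nat.card_zpowers]
  refine Nat.card_congr (Equiv.subtypeEquivRight fun x => ⟨h1 x, fun hx => ?_⟩)
  rcases h.mem_zpowers_iff_two.mp hx with rfl | rfl
  exacts [one_pow _, h.pow_eq_one]

theorem forall_mem_of_no_involution (h : ES 2 z) (h1 : ∀ x : G, x ^ 2 = 1 → x ∈ zpowers z)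
    {x y : G} (hxy : ⁅x, y⁆ = z) :
    x ^ 2 = z ∧ y ^ 2 = z ∧ ∀ c, c ∈ zpowers (⟨z, h.mem_cent2 x y⟩ : cent2 x y) := by
  have h2 : ∀ a b : G, ⁅a, b⁆ = z → a ^ 2 = z := fun a b hab =>
    (h.sq_cases a).resolve_left fun h2 => h.ne_one (hab.symm.trans
      (commutatorElement_eq_one_iff_commute.mpr (h.commute_of_mem b (h1 a h2)).symm))
  refine ⟨h2 x y hxy, h2 y x (h.commutator_symm y x ▸ hxy), fun c => ?_⟩
  have hc := H2.mem_cent2.mp c.2
  have h3 : (c : G) ^ 2 = 1 := (h.sq_cases c).resolve_right fun h3 => by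
    have h4 := h2 (x * c) y (by rw [h.commutator_mul_left, hxy,
      commutatorElement_eq_one_iff_commute.mpr hc.2, mul_one])
    rw [hc.1.symm.mul_pow, h2 x y hxy, h3, h.mul_self] at h4
    exact h.ne_one h4.symm
  obtain ⟨i, hi⟩ := h1 c h3
  exact ⟨i, Subtype.ext hi⟩

end ES

theorem ES.exists_card_nsq (n : ℕ) : ∀ (G : Type u) [Group G] [Finite G] (z : G),
    Nat.card G ≤ n → ES 2 z → ∃ m : ℕ, Nat.card G = 2 ^ (2 * m + 1) ∧
      (nsq (1 : G) = 2 ^ (2 * m) + 2 ^ m ∨ nsq (1 : G) + 2 ^ m = 2 ^ (2 * m)) := by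
  induction n with
  | zero => intro G _ _ _ h; exact absurd h (Nat.not_le.mpr Nat.card_pos)
  | succ n ih =>
    intro G _ _ z hn h
    by_cases h1 : ∀ x : G, x ^ 2 = 1 → x ∈ zpowers z
    · by_cases h2 : ∀ x, x ∈ zpowers z
      · exact ⟨0, h.forall_mem_iff.mp h2, Or.inl (h.nsq_eq_two h1)⟩
      · push Not at h2
        obtain ⟨x, hx⟩ := h2
        obtain ⟨y, hy⟩ := h.exists_partner hx
        refine ⟨1, ?_, Or.inr (by rw [h.nsq_eq_two h1]; rfl)⟩
        rw [← h.card_cent2 hy, (h.sub hy).forall_mem_iff.mp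
          (h.forall_mem_of_no_involution h1 hy).2.2]
        rfl
    · push Not at h1
      obtain ⟨x, hx2, hx⟩ := h1
      obtain ⟨y, hy, hy2⟩ := h.exists_partner_sq hx hx2
      obtain ⟨m, h1, h2⟩ := ih _ _ (Nat.le_of_lt_succ ((h.card_cent2_lt hy).trans_le hn)) (h.sub hy)
      refine ⟨m + 1, by rw [← h.card_cent2 hy, h1]; ring, ?_⟩
      rw [h.nsq_eq_of_pair hy hx2 hy2, h1]
      refine h2.imp (fun h2 => by rw [h2]; ring) fun h2 => ?_
      calc _ = 2 * (nsq (1 : cent2 x y) + 2 ^ m) + 2 ^ (2 * m + 1) := by ring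
        _ = _ := by rw [h2]; ring

theorem ES.exists_equiv_of_nsq (n : ℕ) :
    ∀ (G : Type u) [Group G] [Finite G] (G' : Type v) [Group G'] [Finite G'] (z : G) (z' : G'),
    Nat.card G ≤ n → ES 2 z → ES 2 z' → Nat.card G = Nat.card G' → nsq (1 : G) = nsq (1 : G') →
    ∃ e : G ≃* G', e z = z' := by
  induction n with
  | zero => intro G _ _ _ _ _ _ _ h; exact absurd h (Nat.not_le.mpr Nat.card_pos)
  | succ n ih =>
    intro G _ _ G' _ _ z z' hn h h' hc hN
    by_cases h1 : ∀ x, x ∈ zpowers z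
    · exact h.exists_equiv_of_cyclic h' h1 (h'.forall_mem_iff.mpr (hc ▸ h.forall_mem_iff.mp h1))
    have h2 : ¬ ∀ x, x ∈ zpowers z' := fun h2 =>
      h1 (h.forall_mem_iff.mpr (hc ▸ h'.forall_mem_iff.mp h2))
    by_cases h3 : ∀ x : G, x ^ 2 = 1 → x ∈ zpowers z
    · have h4 : ∀ x : G', x ^ 2 = 1 → x ∈ zpowers z' := fun x hx2 => by
        by_contra hx
        obtain ⟨y, hy, hy2⟩ := h'.exists_partner_sq hx hx2
        rw [h.nsq_eq_two h3, h'.nsq_eq_of_pair hy hx2 hy2] at hN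
        have := (h'.sub hy).two_le_nsq
        omega
      push Not at h1 h2
      obtain ⟨x, hx⟩ := h1
      obtain ⟨x', hx'⟩ := h2
      obtain ⟨y, hy⟩ := h.exists_partner hx
      obtain ⟨y', hy'⟩ := h'.exists_partner hx'
      obtain ⟨a1, a2, a3⟩ := h.forall_mem_of_no_involution h3 hy
      obtain ⟨b1, b2, b3⟩ := h'.forall_mem_of_no_involution h4 hy'
      obtain ⟨β, hβ⟩ := (h.sub hy).exists_equiv_of_cyclic (h'.sub hy') a3 b3
      obtain ⟨e, h5, -⟩ := h.glue h' hy hy' (a := 1) (b := 1) (by simpa) (by simpa)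
        (by simpa) (by simpa) β hβ
      exact ⟨e, h5⟩
    · push Not at h3
      obtain ⟨x, hx2, hx⟩ := h3
      obtain ⟨y, hy, hy2⟩ := h.exists_partner_sq hx hx2
      have h4 : ¬ ∀ x : G', x ^ 2 = 1 → x ∈ zpowers z' := fun h4 => by
        rw [h'.nsq_eq_two h4, h.nsq_eq_of_pair hy hx2 hy2] at hN
        have := (h.sub hy).two_le_nsq
        omega
      push Not at h4
      obtain ⟨x', hx2', hx'⟩ := h4
      obtain ⟨y', hy', hy2'⟩ := h'.exists_partner_sq hx' hx2'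
      have h5 : Nat.card (cent2 x y) = Nat.card (cent2 x' y') :=
        Nat.eq_of_mul_eq_mul_right (Nat.pow_pos two_pos)
          (by rw [h.card_cent2 hy, h'.card_cent2 hy', hc])
      obtain ⟨β, hβ⟩ := ih _ _ _ _ (Nat.le_of_lt_succ ((h.card_cent2_lt hy).trans_le hn)) (h.sub hy)
        (h'.sub hy') h5 (by
          rw [h.nsq_eq_of_pair hy hx2 hy2, h'.nsq_eq_of_pair hy' hx2' hy2'] at hN
          omega)
      obtain ⟨e, h6, -⟩ := h.glue h' hy hy' (a := 0) (b := 0) (by simpa) (by simpa)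
        (by simpa) (by simpa) β hβ
      exact ⟨e, h6⟩

end Cfsg.Agent.H2
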