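import Cfsg.Agent.H2.Extra
import Cfsg.Agent.H2.Meta
import Cfsg.Agent.H2.Maschke
import Cfsg.Agent.H2.Hol
import Mathlib.GroupTheory.Perm.Sign

/-!
The extraspecial group of order 32 of minus type and its five classes of noncentral involutions.
-/

set_option autoImplicit false

namespace Cfsg.Agent.H2

open Subgroup
open scoped commutatorElement Pointwise

variable {G : Type*} [Group G]

/-- Extraspecial of order 32 without elementary abelian subgroups of order 8. -/
structure Minus (z : G) : Prop where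
  es : ES 2 z
  card : Nat.card G = 32
  rk : ∀ A : Subgroup G, IsElementaryAbelian 2 A → Nat.card A ≤ 4

/-- The classes modulo the centre of noncentral involutions. -/
def InvCl (G : Type*) [Group G] : Type _ :=
  {q : G ⧸ center G // q ≠ 1 ∧ ∀ x : G, (x : G ⧸ center G) = q → x ^ 2 = 1}

instance instFiniteInvCl [Finite G] : Finite (InvCl G) := Subtype.finite

/-- Action of automorphisms on the central quotient. -/
def cenAct (G : Type*) [Group G] : MulAut G →* MulAut (G ⧸ center G) :=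
  quotAct (MonoidHom.id _) (center G)
    fun a => isInv_of_characteristic (φ := MonoidHom.id _) (center G) ⊤ a (mem_top _)

theorem cenAct_mk (α : MulAut G) (x : G) : cenAct G α (x : G ⧸ center G) = (α x : G) := rfl

instance instMulActionInvCl : MulAction (MulAut G) (InvCl G) where
  smul α q := ⟨cenAct G α q.1, (map_ne_one_iff _ (cenAct G α).injective).mpr q.2.1, fun x hx => by
    have := q.2.2 (α⁻¹ x) (by rw [← cenAct_mk, hx, map_inv, MulAut.inv_apply_self])
    rwa [← map_pow, map_eq_one_iff _ (α⁻¹).injective] at this⟩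
  one_smul q := Subtype.ext (by change cenAct G 1 q.1 = _; rw [map_one, MulAut.one_apply])
  mul_smul α β q := Subtype.ext (by
    change cenAct G (α * β) q.1 = cenAct G α (cenAct G β q.1)
    rw [map_mul, MulAut.mul_apply])

theorem InvCl.smul_val (α : MulAut G) (q : InvCl G) : (α • q).1 = cenAct G α q.1 := rfl

theorem InvCl.exists_rep (q : InvCl G) :
    ∃ x : G, x ^ 2 = 1 ∧ x ∉ center G ∧ (x : G ⧸ center G) = q.1 := by
  obtain ⟨x, hx⟩ := QuotientGroup.mk_surjective q.1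
  exact ⟨x, q.2.2 x hx, fun h => q.2.1 (hx ▸ (QuotientGroup.eq_one_iff x).mpr h), hx⟩

namespace Minus

variable [Finite G] {z : G} (h : Minus z)
include h

theorem comm_eq {x y : G} (hx : x ^ 2 = 1) (hx' : x ∉ center G) (hy : y ^ 2 = 1)
    (hy' : y ∉ center G) (hxy : (x : G ⧸ center G) ≠ y) : ⁅x, y⁆ = z := by
  refine (h.es.comm_cases x y).resolve_left fun h1 => ?_
  rw [Ne, QuotientGroup.eq, inv_eq_of_mul_eq_one_right ((sq x).symm.trans hx)] at hxy
  rw [h.es.cen] at hx' hy' hxy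
  rcases mem_zpowers_cases_of_rank_two (fun A h1 h2 => h.rk A ⟨h1, h2⟩) h.es.ord hx hy
    (commutatorElement_eq_one_iff_commute.mp h1) (h.es.commute x) (h.es.commute y) with h | h | h
  exacts [hx' h, hy' h, hxy h]

omit [Finite G] in
theorem sq_eq_one_of_eq {x y : G} (hx : x ^ 2 = 1) (hxy : (y : G ⧸ center G) = x) : y ^ 2 = 1 := by
  have h1 := QuotientGroup.eq.mp hxy.symm
  rw [← mul_inv_cancel_left x y, Commute.mul_pow (mem_center_iff.mp h1 x), hx, one_mul]
  rw [h.es.cen, h.es.mem_zpowers_iff_two] at h1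
  rcases h1 with h1 | h1 <;> rw [h1]
  exacts [one_pow 2, h.es.pow_eq_one]

theorem card_cent2 {x y : G} (hxy : ⁅x, y⁆ = z) : Nat.card (cent2 x y) = 8 := by
  have := h.es.card_cent2 hxy
  rw [h.card] at this
  omega

theorem nsq_eq : nsq (1 : G) = 12 := by
  obtain ⟨x, hx, hx'⟩ : ∃ x : G, x ^ 2 = 1 ∧ x ∉ zpowers z := by
    by_contra! h1
    obtain ⟨x, hx⟩ := not_forall.mp (mt h.es.forall_mem_iff.mp (by rw [h.card]; decide))
    obtain ⟨y, hy⟩ := h.es.exists_partner hx
    have h2 := (h.es.sub hy).forall_mem_iff.mp (h.es.forall_mem_of_no_involution h1 hy).2.2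
    rw [h.card_cent2 hy] at h2
    exact absurd h2 (by decide)
  obtain ⟨y, hxy, hy⟩ := h.es.exists_partner_sq hx' hx
  rw [h.es.nsq_eq_of_pair hxy hx hy, h.card_cent2 hxy, (h.es.sub hxy).nsq_eq_two fun c hc => ?_]
  have hc' : (c : G) ^ 2 = 1 := congrArg Subtype.val hc
  have h1 : (c : G) ∈ zpowers z := by
    by_contra h1
    rw [← h.es.cen] at h1 hx'
    have h2 := mem_cent2.mp c.2
    by_cases h3 : ((c : G) : G ⧸ center G) = x
    · have h4 := mem_center_iff.mp (QuotientGroup.eq.mp h3) y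
      have h5 : Commute x y := by
        rw [← mul_inv_cancel_left (c : G) x]
        exact h2.2.mul_left h4.symm
      exact h.es.ne_one (hxy ▸ commutatorElement_eq_one_iff_commute.mpr h5)
    · exact h.es.ne_one (h.comm_eq hc' h1 hx hx' h3 ▸ commutatorElement_eq_one_iff_commute.mpr h2.1)
  obtain ⟨i, hi⟩ := h1
  exact ⟨i, Subtype.ext hi⟩

theorem card_invCl : Nat.card (InvCl G) = 5 := by
  set S : Set (G ⧸ center G) := {q | q ≠ 1 ∧ ∀ x : G, (x : G ⧸ center G) = q → x ^ 2 = 1}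
  have h1 := QuotientGroup.card_preimage_mk (center G) (insert 1 S)
  have h2 : QuotientGroup.mk ⁻¹' (insert 1 S) = {x : G | x ^ 2 = 1} := by
    ext x
    refine ⟨fun hx => hx.elim (fun hx => h.sq_eq_one_of_eq (one_pow 2) hx) fun hx => hx.2 x rfl,
      fun hx => ?_⟩
    by_cases h3 : (x : G ⧸ center G) = 1
    · exact .inl h3
    · exact .inr ⟨h3, fun y hy => h.sq_eq_one_of_eq hx hy⟩
  rw [h2, h.es.card_center, Nat.card_coe_set_eq (insert 1 S),
    Set.ncard_insert_of_notMem fun h => h.1 rfl] at h1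
  have h3 : Nat.card {x : G | x ^ 2 = 1} = 12 := h.nsq_eq
  change S.ncard = 5
  omega

theorem closure_eq_top {x y u v : G} (hxy : ⁅x, y⁆ = z) (hxu : ⁅x, u⁆ = z) (hxv : ⁅x, v⁆ = z)
    (hyu : ⁅y, u⁆ = z) (hyv : ⁅y, v⁆ = z) (huv : ⁅u, v⁆ = z) : closure {x, y, u, v} = ⊤ := by
  have e := h.es
  have h1 : ∀ w, ⁅x, w⁆ = z → ⁅y, w⁆ = z → x * y * w ∈ cent2 x y := fun w h1 h2 => by
    rw [mem_cent2, ← commutatorElement_eq_one_iff_commute, ← commutatorElement_eq_one_iff_commute,
      e.commutator_mul_left, e.commutator_mul_left, e.commutator_mul_left, e.commutator_mul_left,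
      e.commutator_symm w, e.commutator_symm w, e.commutator_symm y x, h1, h2, hxy]
    simp [e.mul_self]
  have h2 : ⁅(⟨_, h1 u hxu hyu⟩ : cent2 x y), (⟨_, h1 v hxv hyv⟩ : cent2 x y)⁆ =
      ⟨z, e.mem_cent2 x y⟩ := Subtype.ext (by
    change ⁅x * y * u, x * y * v⁆ = z
    have h3 := mem_cent2.mp (h1 u hxu hyu)
    rw [e.commutator_mul_right, e.commutator_mul_right, commutatorElement_eq_one_iff_commute.mpr h3.1,
      commutatorElement_eq_one_iff_commute.mpr h3.2, e.commutator_mul_left, e.commutator_mul_left,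
      hxv, hyv, huv, e.mul_self]
    simp)
  have h3 := (e.sub hxy).card_cent2 h2
  rw [h.card_cent2 hxy] at h3
  have h4 := ((e.sub hxy).sub h2).forall_mem_iff.mpr (by omega)
  set K := closure {x, y, u, v}
  have hx : x ∈ K := subset_closure (by simp)
  have hy : y ∈ K := subset_closure (by simp)
  have hu : u ∈ K := subset_closure (by simp)
  have hv : v ∈ K := subset_closure (by simp)
  refine eq_top_iff.mpr fun g _ => ?_
  obtain ⟨i, j, c, hc, rfl⟩ := e.exists_nf hxy g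
  obtain ⟨k, l, d, hd, h5⟩ := (e.sub hxy).exists_nf h2 ⟨c, hc⟩
  obtain ⟨m, hm⟩ := h4 ⟨d, hd⟩
  have h6 : (d : G) = z ^ m := (congrArg (fun w => w.1.1) hm).symm
  rw [show c = (x * y * u) ^ k * (x * y * v) ^ l * d from congrArg Subtype.val h5, h6, ← hxy,
    commutatorElement_def]
  exact mul_mem (mul_mem (zpow_mem hx _) (zpow_mem hy _)) (mul_mem (mul_mem
    (zpow_mem (mul_mem (mul_mem hx hy) hu) _) (zpow_mem (mul_mem (mul_mem hx hy) hv) _))
    (zpow_mem (mul_mem (mul_mem (mul_mem hx hy) (inv_mem hx)) (inv_mem hy)) _))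

theorem exists_gens : ∃ f : Fin 4 → G, (∀ i, f i ^ 2 = 1 ∧ f i ∉ center G) ∧
    closure (Set.range f) = ⊤ := by
  haveI := Fintype.ofFinite (InvCl G)
  let e := (Fintype.equivFinOfCardEq (Nat.card_eq_fintype_card.symm.trans h.card_invCl)).symm
  choose r h1 h2 h3 using InvCl.exists_rep (G := G)
  have h4 : ∀ i j, i ≠ j → ⁅r (e i), r (e j)⁆ = z := fun i j hij =>
    h.comm_eq (h1 _) (h2 _) (h1 _) (h2 _) fun h5 => hij (e.injective (Subtype.ext (by
      rw [← h3, ← h3, h5])))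
  refine ⟨fun i => r (e i.castSucc), fun i => ⟨h1 _, h2 _⟩, eq_top_iff.mpr ((h.closure_eq_top
    (h4 0 1 (by decide)) (h4 0 2 (by decide)) (h4 0 3 (by decide)) (h4 1 2 (by decide))
    (h4 1 3 (by decide)) (h4 2 3 (by decide))).ge.trans (closure_mono ?_))⟩
  rintro _ (rfl | rfl | rfl | rfl)
  exacts [⟨0, rfl⟩, ⟨1, rfl⟩, ⟨2, rfl⟩, ⟨3, rfl⟩]

omit [Finite G] in
theorem mk_mem {x : G} (hx : x ^ 2 = 1) (hx' : x ∉ center G) : (x : G ⧸ center G) ≠ 1 ∧
    ∀ y : G, (y : G ⧸ center G) = x → y ^ 2 = 1 :=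
  ⟨mt (QuotientGroup.eq_one_iff _).mp hx', fun _ hy => h.sq_eq_one_of_eq hx hy⟩

theorem cenAct_eq_one {α : MulAut G} (hα : ∀ q : InvCl G, α • q = q) : cenAct G α = 1 := by
  obtain ⟨f, h1, h2⟩ := h.exists_gens
  refine MulEquiv.ext fun q => ?_
  obtain ⟨x, rfl⟩ := QuotientGroup.mk_surjective q
  refine DFunLike.congr_fun (MonoidHom.eq_of_eqOn_dense h2
    (f := (cenAct G α).toMonoidHom.comp (QuotientGroup.mk' _)) (g := QuotientGroup.mk' _) ?_) x
  rintro _ ⟨i, rfl⟩
  exact congrArg Subtype.val (hα ⟨_, h.mk_mem (h1 i).1 (h1 i).2⟩)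

theorem toPermHom_surjective :
    Function.Surjective (MulAction.toPermHom (MulAut G) (InvCl G)) := by
  classical
  rw [← MonoidHom.range_eq_top, eq_top_iff, ← Equiv.Perm.closure_isSwap, closure_le]
  rintro _ ⟨a, b, hab, rfl⟩
  obtain ⟨x, hx, hx', hxa⟩ := a.exists_rep
  obtain ⟨y, hy, hy', hyb⟩ := b.exists_rep
  have e := h.es
  have hxy := h.comm_eq hx hx' hy hy' fun h1 => hab (Subtype.ext (by rw [← hxa, h1, hyb]))
  obtain ⟨α, -, h1, h2, h3⟩ := e.glue e hxy (e.commutator_symm x y ▸ hxy) (a := 0) (b := 0)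
    (by simpa) (by simpa) (by simpa) (by simpa) (MulEquiv.subgroupCongr (inf_comm _ _)) rfl
  refine ⟨α, Equiv.ext fun c => Subtype.ext ?_⟩
  change cenAct G α c.1 = _
  by_cases hca : c = a
  · rw [hca, Equiv.swap_apply_left, ← hxa, cenAct_mk, h1, hyb]
  by_cases hcb : c = b
  · rw [hcb, Equiv.swap_apply_right, ← hyb, cenAct_mk, h2, hxa]
  obtain ⟨w, hw, hw', hwc⟩ := c.exists_rep
  have hxw := h.comm_eq hx hx' hw hw' fun h1 => hca (Subtype.ext (by rw [← hxa, h1, hwc]))
  have hyw := h.comm_eq hy hy' hw hw' fun h1 => hcb (Subtype.ext (by rw [← hyb, h1, hwc]))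
  have h4 : x * y * w ∈ cent2 x y := by
    rw [mem_cent2, ← commutatorElement_eq_one_iff_commute, ← commutatorElement_eq_one_iff_commute,
      e.commutator_mul_left, e.commutator_mul_left, e.commutator_mul_left, e.commutator_mul_left,
      e.commutator_symm w, e.commutator_symm w, e.commutator_symm y x, hxw, hyw, hxy]
    simp [e.mul_self]
  have h5 : α (x * y * w) = x * y * w := h3 ⟨_, h4⟩
  rw [map_mul, map_mul, h1, h2] at h5
  rw [Equiv.swap_apply_of_ne_of_ne hca hcb, ← hwc, cenAct_mk, eq_inv_mul_of_mul_eq h5,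
    show (y * x)⁻¹ * (x * y * w) = ⁅x⁻¹, y⁻¹⁆ * w by group, QuotientGroup.mk_mul,
    (QuotientGroup.eq_one_iff _).mpr (e.cen ▸ e.comm _ _), one_mul]

theorem card_ker_le : Nat.card (MulAction.toPermHom (MulAut G) (InvCl G)).ker ≤ 16 := by
  obtain ⟨f, h1, h2⟩ := h.exists_gens
  refine (Nat.card_le_card_of_injective (β := Fin 4 → center G) (fun α i =>
    ⟨(f i)⁻¹ * α.1 (f i), QuotientGroup.eq.mp (congrArg Subtype.val (Equiv.congr_fun α.2
      ⟨_, h.mk_mem (h1 i).1 (h1 i).2⟩)).symm⟩) fun α β hαβ => ?_).trans_eq ?_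
  · refine Subtype.ext (MulEquiv.toMonoidHom_injective (MonoidHom.eq_of_eqOn_dense h2 ?_))
    rintro _ ⟨i, rfl⟩
    exact mul_left_cancel (congrArg Subtype.val (congrFun hαβ i))
  · rw [Nat.card_fun, h.es.card_center, Nat.card_fin]; rfl

end Minus

theorem exists_minus [Finite G] (hex : IsExtraspecial 2 G) (h32 : Nat.card G = 32)
    (h : ∀ A : Subgroup G, IsElementaryAbelian 2 A → Nat.card A ≤ 4) : ∃ z : G, Minus z :=
  have ⟨z, hz, _⟩ := exists_ES_of_isExtraspecial hex
  ⟨z, hz, h32, h⟩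

end Cfsg.Agent.H2
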