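import Cfsg.Agent.H8.J1C

/-! A simple group with an involution centraliser `2 × A₅` has only inner automorphisms. -/

set_option autoImplicit false
set_option maxRecDepth 100000
set_option synthInstance.maxSize 2000

namespace Cfsg.Agent.H8.J1

open Subgroup

theorem oq_A : ∀ m : Q, m * m = 1 → m ≠ 1 → sg m = 0 → ∃ k : Q, k * a0 * k⁻¹ = m := by
  decide +kernel
theorem oq_sq : ∃ j k : Q, a0 = j * j * (k * k) := by decide +kernel
theorem oq_sg : ∀ j k : Q, sg (j * j * (k * k)) = 0 := by decide +kernel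
theorem oq_B : ∀ k c : Q, inS c → tf (k⁻¹ * a0 * k) = a0 * c → tf (k⁻¹ * c * k) = z0 * c →
    c = c0 := by decide +kernel
theorem oq_C : ∀ b : Q, b * b = 1 → (a0 * b) ^ 3 = 1 → (b * c0) ^ 5 = 1 → (a0 * b * c0) ^ 5 = 1 →
    ∃ k : Q, k * a0 * k⁻¹ = a0 ∧ k * c0 * k⁻¹ = c0 ∧ k * b0 * k⁻¹ = b := by decide +kernel
theorem oq_D : ∀ k : Q, inS k → r0⁻¹ * k * r0 = tf k * k → k = 1 ∨ k = a0 * z0 := by
  decide +kernel
theorem oq_tf6 : ∀ m : Q, inS m → inS (tf^[6] m) ∧ tf (tf^[6] m) = m := by decide +kernel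

variable {G : Type*} [Group G] {ι κ : Q →* G} {s s' : G}

theorem JH.map (J : JH ι s) (α : G ≃* G) : JH (α.toMonoidHom.comp ι) (α s) where
  inj := α.injective.comp J.inj
  cent g h := by
    obtain ⟨k, hk⟩ := J.cent (α.symm g) (α.injective (by simpa using h))
    exact ⟨k, by simp [hk]⟩
  acts m hm := by simpa using congrArg α (J.acts m hm)
  rs := by simpa using congrArg α J.rs
  h16 := J.h16

/-- two configurations are conjugate -/
def Ag (ι κ : Q →* G) (s s' : G) : Prop := ∃ g : G, g * ι a0 * g⁻¹ = κ a0 ∧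
  g * ι b0 * g⁻¹ = κ b0 ∧ g * ι c0 * g⁻¹ = κ c0 ∧ g * ι z0 * g⁻¹ = κ z0 ∧ g * s * g⁻¹ = s'

theorem Ag.back (g : G) (h : Ag ((MulAut.conj g).toMonoidHom.comp ι) κ (MulAut.conj g s) s') :
    Ag ι κ s s' := by
  obtain ⟨k, h⟩ := h
  refine ⟨k * g, ?_⟩
  simpa [mul_assoc] using h

theorem JH.agD (J : JH ι s) (J' : JH κ s') (ha : ι a0 = κ a0) (hb : ι b0 = κ b0)
    (hc : ι c0 = κ c0) (hz : ι z0 = κ z0) : Ag ι κ s s' := by
  have e1 := J.acts z0 (by decide +kernel)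
  have e2 := J'.acts z0 (by decide +kernel)
  have e3 := J.acts a0 (by decide +kernel)
  have e4 := J'.acts a0 (by decide +kernel)
  have e5 := J.acts (z0 * (a0 * c0)) (by decide +kernel)
  have e6 := J'.acts (z0 * (a0 * c0)) (by decide +kernel)
  rw [show tf z0 = a0 by decide +kernel] at e1 e2
  rw [show tf (z0 * (a0 * c0)) = z0 by decide +kernel] at e5 e6
  simp only [map_mul] at e5 e6
  rw [← ha, ← hz] at e2
  rw [← ha, ← hz, ← hc] at e6
  obtain ⟨k, hk, e⟩ := J.toBase.centS (g := s⁻¹ * s')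
    (by calc s⁻¹ * s' * ι z0 = s⁻¹ * s' * (s'⁻¹ * (ι z0 * (ι a0 * ι c0)) * s') := by rw [e6]
      _ = (s⁻¹ * (ι z0 * (ι a0 * ι c0)) * s) * (s⁻¹ * s') := by group
      _ = _ := by rw [e5])
    (by calc s⁻¹ * s' * ι a0 = s⁻¹ * s' * (s'⁻¹ * ι z0 * s') := by rw [e2]
      _ = (s⁻¹ * ι z0 * s) * (s⁻¹ * s') := by group
      _ = _ := by rw [e1])
  obtain rfl : s' = s * ι k := by rw [e]; group
  have hr : κ r0 = ι r0 := by simp only [r0, map_mul, ha, hb, hc]
  have e7 := J'.rs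
  rw [hr] at e7
  have e8 : r0⁻¹ * k * r0 = tf k * k := J.inj (by
    simp only [map_mul, map_inv]
    rw [← J.acts k hk]
    calc _ = (s ^ 2)⁻¹ * ((ι r0)⁻¹ * s * ι r0) * ((ι r0)⁻¹ * ι k * ι r0) := by rw [J.rs]; group
      _ = (s ^ 2)⁻¹ * ((ι r0)⁻¹ * (s * ι k) * ι r0) := by group
      _ = _ := by rw [e7]; simp only [pow_two]; group)
  have c : ∀ m, ι z0 * ι m * (ι z0)⁻¹ = ι m := fun m => by
    rw [← map_mul, ← q_z, map_mul, mul_inv_cancel_right]
  rcases oq_D k hk e8 with rfl | rfl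
  · exact ⟨1, by simp [ha, hb, hc, hz]⟩
  · refine ⟨ι z0, (c _).trans ha, (c _).trans hb, (c _).trans hc, (c _).trans hz, ?_⟩
    rw [map_mul, ← e1, ← map_inv, show z0⁻¹ = z0 by decide +kernel]
    group

theorem JH.agC (J : JH ι s) (J' : JH κ s') (ha : ι a0 = κ a0) (hc : ι c0 = κ c0)
    (hz : ι z0 = κ z0) : Ag ι κ s s' := by
  obtain ⟨b, hb⟩ := J.cent (κ b0) (by rw [hz, ← map_mul, ← map_mul, q_z])
  have o : ∀ m n : Q, ι m = κ n → n = 1 → m = 1 := fun m n h1 h2 =>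
    J.inj (by rw [h1, h2, map_one, map_one])
  obtain ⟨k, h1, h2, h3⟩ := oq_C b (o _ (b0 * b0) (by simp [hb]) (by decide +kernel))
    (o _ ((a0 * b0) ^ 3) (by simp [hb, ha]) (by decide +kernel))
    (o _ ((b0 * c0) ^ 5) (by simp [hb, hc]) (by decide +kernel))
    (o _ ((a0 * b0 * c0) ^ 5) (by simp [hb, ha, hc]) (by decide +kernel))
  have e : ∀ m, ((MulAut.conj (ι k)).toMonoidHom.comp ι) m = ι (k * m * k⁻¹) := fun m => by simp
  exact Ag.back (ι k) ((J.map _).agD J' (by rw [e, h1, ha]) (by rw [e, h3, hb])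
    (by rw [e, h2, hc]) (by rw [e, q_z k, mul_inv_cancel_right, hz]))

theorem JH.agB (J : JH ι s) (J' : JH κ s') (ha : ι a0 = κ a0) (hz : ι z0 = κ z0) :
    Ag ι κ s s' := by
  obtain ⟨c, hcS, hc⟩ := J.toBase.centS (g := κ c0) (by rw [hz, ← map_mul, ← map_mul, q_z])
    (by rw [ha, ← map_mul, ← map_mul]; exact congrArg κ (by decide +kernel))
  have e1 := J.acts z0 (by decide +kernel)
  have e2 := J'.acts z0 (by decide +kernel)
  have e3 := J'.acts a0 (by decide +kernel)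
  have e4 := J'.acts c0 (by decide +kernel)
  rw [show tf z0 = a0 by decide +kernel] at e1 e2
  rw [show tf a0 = a0 * c0 by decide +kernel, map_mul, ← ha, ← hc, ← map_mul] at e3
  rw [show tf c0 = z0 * c0 by decide +kernel, map_mul, ← hz, ← hc, ← map_mul] at e4
  rw [← ha, ← hz] at e2
  obtain ⟨k, hk⟩ := J.cent (s' * s⁻¹) (by
    calc s' * s⁻¹ * ι z0 = s' * (s⁻¹ * ι z0 * s) * s⁻¹ := by group
      _ = _ := by rw [e1, ← e2]; group)
  obtain rfl : s' = ι k * s := by rw [hk]; group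
  have key : ∀ m n, inS n → (ι k * s)⁻¹ * ι m * (ι k * s) = ι n → tf (k⁻¹ * m * k) = n :=
    fun m n hn h => by
      have h1 := J.acts _ (oq_tf6 n hn).1
      rw [(oq_tf6 n hn).2, ← h] at h1
      rw [show k⁻¹ * m * k = tf^[6] n from J.inj (by
        simp only [map_mul, map_inv]
        calc _ = s * ((ι k * s)⁻¹ * ι m * (ι k * s)) * s⁻¹ := by group
          _ = _ := by rw [← h1]; group), (oq_tf6 n hn).2]
  obtain rfl := oq_B k c hcS (key _ _ (S0.mul_mem (show inS a0 from rfl) hcS) e3)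
    (key _ _ (S0.mul_mem (show inS z0 by decide +kernel) hcS) e4)
  exact J.agC J' ha hc hz

theorem JH.agA (J : JH ι s) (J' : JH κ s') (hz : ι z0 = κ z0) : Ag ι κ s s' := by
  have h0 : ∀ m, ∃ n, ι n = κ m := fun m => J.cent _ (by rw [hz, ← map_mul, ← map_mul, q_z])
  obtain ⟨j, l, e0⟩ := oq_sq
  obtain ⟨j', hj⟩ := h0 j
  obtain ⟨l', hl⟩ := h0 l
  have ha : ι (j' * j' * (l' * l')) = κ a0 := by simp [e0, hj, hl]
  obtain ⟨k, h1⟩ := oq_A (j' * j' * (l' * l')) (J.inj (by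
    rw [map_mul, ha, ← map_mul, map_one, ← map_one κ]; exact congrArg κ (by decide +kernel)))
    (fun h => J'.toBase.ne (show a0 ≠ 1 by decide +kernel) (by rw [← ha, h, map_one, map_one]))
    (oq_sg _ _)
  have e : ∀ m, ((MulAut.conj (ι k)).toMonoidHom.comp ι) m = ι (k * m * k⁻¹) := fun m => by simp
  exact Ag.back (ι k) ((J.map _).agB J' (by rw [e, h1, ha])
    (by rw [e, q_z k, mul_inv_cancel_right, hz]))

theorem JH.inner [Finite G] (J : JH ι s) (α : G ≃* G) : ∃ g : G, ∀ x, α x = g * x * g⁻¹ := by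
  have J' := J.map α
  obtain ⟨u, hu⟩ := J.conj_t (u := α (ι z0))
    (by rw [← map_mul, ← map_mul, show z0 * z0 = 1 by decide +kernel, map_one, map_one])
    (fun h => J'.toBase.ne (show z0 ≠ 1 by decide +kernel) (by simpa using h))
  obtain ⟨g, h1, h2, h3, h4, h5⟩ := Ag.back u⁻¹ ((J.map _).agA J' (by simpa using hu))
  refine ⟨g, fun x => ?_⟩
  have : gen ι s ≤ α.toMonoidHom.eqLocus (MulAut.conj g).toMonoidHom := by
    rw [gen, closure_le]
    intro y hy
    simp only [Set.mem_insert_iff, Set.mem_singleton_iff] at hy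
    rcases hy with rfl | rfl | rfl | rfl | rfl
    exacts [h1.symm, h2.symm, h3.symm, h4.symm, h5.symm]
  exact this (J.main.2 ▸ mem_top x)

theorem inner_of_cent [Finite G] [IsSimpleGroup G] {t : G} (ht : orderOf t = 2)
    (hP : ∃ P : Sylow 2 G, t ∈ P ∧ ∀ x ∈ P, x * t = t * x)
    (e : centralizer ({t} : Set G) ≃* Multiplicative (ZMod 2) × alternatingGroup (Fin 5))
    (α : G ≃* G) : ∃ g : G, ∀ x, α x = g * x * g⁻¹ := by
  obtain ⟨ι, B, h⟩ := exists_base ht hP e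
  obtain ⟨κ, s, J⟩ := exists_JH B h
  exact J.inner α

end Cfsg.Agent.H8.J1
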